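import Groth.Prelude.Def_Dix
import Groth.Agent.S0108
import Mathlib.Algebra.Homology.DerivedCategory.Ext.ExactSequences
/-! # Kummer theory on étale cohomology: formal consequences -/

universe u

open CategoryTheory CategoryTheory.Limits AlgebraicGeometry Opposite Abelian

namespace Groth.Misc1.Kummer

theorem isUnit_natCast_of_invertibleOn {X : Scheme.{u}} {n : ℕ} (hX : Dix.InvertibleOn X n) :
    IsUnit (n : Γ(X, ⊤)) := by
  refine RingedSpace.isUnit_of_isUnit_germ X.toSheafedSpace ⊤ _ fun x hx => ?_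
  have h1 : X.evaluation ⊤ x hx (n : Γ(X, ⊤)) ≠ 0 := by
    have h2 : X.evaluation ⊤ x hx (n : Γ(X, ⊤)) = (n : X.residueField x) := map_natCast _ n
    rw [h2]
    exact hX x
  have h3 := (X.evaluation_ne_zero_iff_mem_basicOpen x hx _).1 h1
  exact (X.mem_basicOpen _ x hx).1 h3

theorem epi_powMap {X : Scheme.{u}} {n : ℕ} (hX : Dix.InvertibleOn X n) : Epi (EtCoh.powMap X n) :=
  Groth.Agent.S0108.result X n (isUnit_natCast_of_invertibleOn hX)

variable {X : Scheme.{u}}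

/-- The map induced on cohomology, as an Ext composite. -/
theorem HF_map_apply {F G : EtCoh.Ab X} (f : F ⟶ G) {i : ℕ} (ξ : EtCoh.H X F i) :
    ((EtCoh.HF X i).map f) ξ = ξ.comp (Ext.mk₀ f) (add_zero i) := rfl

theorem comp_mk₀_nsmul_id {F : EtCoh.Ab X} (n : ℕ) {i : ℕ} (ξ : EtCoh.H X F i) :
    ξ.comp (Ext.mk₀ (n • 𝟙 F)) (add_zero i) = n • ξ := by
  induction n with
  | zero => simp
  | succ n ih => rw [succ_nsmul, succ_nsmul, Ext.mk₀_add, Ext.comp_add, ih, Ext.comp_mk₀_id]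

theorem comp_mk₀_powMap (n : ℕ) {i : ℕ} (ξ : EtCoh.H X (EtCoh.Gm X) i) :
    ξ.comp (Ext.mk₀ (EtCoh.powMap X n)) (add_zero i) = n • ξ :=
  comp_mk₀_nsmul_id n ξ

theorem isPrimaryTorsion_of_nsmul_id {F : EtCoh.Ab X} {ℓ : ℕ} (h : ℓ • 𝟙 F = 0) :
    Dix.IsPrimaryTorsion ℓ F := by
  intro U s x
  refine ⟨U, 𝟙 U, ⟨x, rfl⟩, 1, ?_⟩
  have hev : ∀ m : ℕ, ((m • 𝟙 F : F ⟶ F).hom.app (op U)) s = m • s := fun m => by
    induction m with
    | zero => simp
    | succ m ih => rw [succ_nsmul, succ_nsmul, ← ih]; rfl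
  have h1 := hev ℓ
  rw [h] at h1
  rw [pow_one, op_id, F.obj.map_id]
  exact h1.symm

theorem nsmul_id_mu (n : ℕ) : n • 𝟙 (EtCoh.mu X n) = 0 := by
  have h : EtCoh.muι X n ≫ EtCoh.powMap X n = 0 := kernel.condition _
  have : Mono (EtCoh.muι X n) := inferInstanceAs (Mono (kernel.ι _))
  rw [← cancel_mono (EtCoh.muι X n), Preadditive.nsmul_comp, Category.id_comp, zero_comp, ← h,
    EtCoh.powMap, Preadditive.comp_nsmul, Category.comp_id]

end Groth.Misc1.Kummer
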